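import Groth.Agent.Pic13Lib.PnFieldExt
import Groth.Agent.AGF20Lib.PicThk
import Groth.Agent.H28.PnFlat
import Groth.Agent.S0844

/-!
Deformations of projective space over complete local rings: the lift of the twisting module.
-/

set_option autoImplicit false
set_option linter.style.haveILetI false
set_option linter.unusedSectionVars false
set_option backward.isDefEq.respectTransparency false
set_option backward.isDefEq.respectTransparency.types false
set_option maxHeartbeats 1000000

universe u

open CategoryTheory CategoryTheory.Limits AlgebraicGeometry TopologicalSpace Opposite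
open Groth.Agent.H23 Groth.Agent.H23.PicMul

attribute [local instance] PicMul.clMonoid

noncomputable section

namespace Groth.Agent.PnDeform

open Groth.Agent

/-- The map of projective spaces along a ring map. -/
theorem exists_pn_map {R R' : Type u} [CommRing R] [CommRing R'] (φ : R →+* R') (n : ℕ) :
    ∃ β : CohB1.ProjSpace n R' ⟶ CohB1.ProjSpace n R,
      IsPullback β (CohB1.ProjSpace.toSpec n R') (CohB1.ProjSpace.toSpec n R) (Spec.map (CommRingCat.ofHom φ)) ∧
      Nonempty ((Scheme.Modules.pullback β).obj (Twist.twistProjSpace n R 1) ≅ Twist.twistProjSpace n R' 1) := by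
  obtain ⟨a, ha, ⟨τ⟩⟩ := SeesawX.PnSpec.exists_iso n R
  obtain ⟨b, hb, ⟨σ⟩⟩ := SeesawX.PnSpec.exists_iso n R'
  let g : Spec (CommRingCat.of R') ⟶ Spec (CommRingCat.of R) := Spec.map (CommRingCat.ofHom φ)
  let ψ := H28.PnBC.ψ (n := n) g
  refine ⟨b.inv ≫ ψ ≫ a.hom, ?_, ?_⟩
  · refine IsPullback.of_iso (SeesawX.PnFibre.isPullback_ψ (n := n) g) b a (Iso.refl _) (Iso.refl _) ?_ ?_ ?_ ?_
    · rw [Iso.hom_inv_id_assoc]
    · rw [Iso.refl_hom, Category.comp_id]; exact hb.symm
    · rw [Iso.refl_hom, Category.comp_id]; exact ha.symm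
    · rw [Iso.refl_hom, Iso.refl_hom, Category.comp_id, Category.id_comp]
  · obtain ⟨e⟩ := H28.PnBC.pullback_twistOver (n := n) g 1
    exact ⟨((Scheme.Modules.pullbackComp b.inv (ψ ≫ a.hom)).app _).symm ≪≫
      (Scheme.Modules.pullback b.inv).mapIso (((Scheme.Modules.pullbackComp ψ a.hom).app _).symm ≪≫
        (Scheme.Modules.pullback ψ).mapIso τ ≪≫ e ≪≫ σ.symm) ≪≫
      (Scheme.Modules.pullbackComp b.inv b.hom).app _ ≪≫ (Scheme.Modules.pullbackCongr b.inv_hom_id).app _ ≪≫
      (Scheme.Modules.pullbackId _).app _⟩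

variable {A : Type u} [CommRing A] [IsLocalRing A]

/-- The closed point, as a morphism. -/
abbrev q (A : Type u) [CommRing A] [IsLocalRing A] :
    Spec (CommRingCat.of (IsLocalRing.ResidueField A)) ⟶ Spec (CommRingCat.of A) :=
  Spec.map (CommRingCat.ofHom (IsLocalRing.residue A))

theorem exists_thickBase : ∃ w : Spec (CommRingCat.of (A ⧸ IsLocalRing.maximalIdeal A ^ (0 + 1))) ≅
    Spec (CommRingCat.of (IsLocalRing.ResidueField A)), w.hom ≫ q A = CohB1.specQuot (IsLocalRing.maximalIdeal A) 0 := by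
  let e : (A ⧸ IsLocalRing.maximalIdeal A ^ (0 + 1)) ≃+* IsLocalRing.ResidueField A :=
    Ideal.quotEquivOfEq (by rw [zero_add, pow_one])
  refine ⟨Scheme.Spec.mapIso e.toCommRingCatIso.symm.op, ?_⟩
  show Spec.map (CommRingCat.ofHom e.symm.toRingHom) ≫ _ = _
  rw [← Spec.map_comp]
  refine congrArg Spec.map (CommRingCat.hom_ext (RingHom.ext fun x => ?_))
  show e.symm (Ideal.Quotient.mk _ x) = Ideal.Quotient.mk _ x
  exact e.injective (by rw [e.apply_symm_apply]; rfl)

theorem exists_residueBase : ∃ w : Spec ((Spec (CommRingCat.of A)).residueField (IsLocalRing.closedPoint A)) ≅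
    Spec (CommRingCat.of (IsLocalRing.ResidueField A)),
      w.hom ≫ q A = (Spec (CommRingCat.of A)).fromSpecResidueField (IsLocalRing.closedPoint A) := by
  let p : PrimeSpectrum A := IsLocalRing.closedPoint A
  haveI : p.asIdeal.IsMaximal := IsLocalRing.maximalIdeal.isMaximal A
  let e : (A ⧸ p.asIdeal) ≃+* p.asIdeal.ResidueField :=
    RingEquiv.ofBijective _ p.asIdeal.bijective_algebraMap_quotient_residueField
  refine ⟨Scheme.Spec.mapIso ((Scheme.Spec.residueFieldIso (CommRingCat.of A) p).symm.op) ≪≫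
    Scheme.Spec.mapIso e.toCommRingCatIso.op, ?_⟩
  refine Eq.trans ?_ (Scheme.Spec.map_residueFieldIso_inv_eq_fromSpecResidueField (CommRingCat.of A) p)
  show (Spec.map _ ≫ Spec.map (CommRingCat.ofHom e.toRingHom)) ≫ _ = _
  rw [Category.assoc, ← Spec.map_comp]
  rfl

variable {r : ℕ} {X : Scheme.{u}} (f : X ⟶ Spec (CommRingCat.of A))

/-- A base change along a morphism isomorphic to the closed point is isomorphic to the closed fibre. -/
theorem exists_fibre_iso {T : Scheme.{u}} (g : T ⟶ Spec (CommRingCat.of A))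
    (h : ∃ w : T ≅ Spec (CommRingCat.of (IsLocalRing.ResidueField A)), w.hom ≫ q A = g) :
    ∃ v : pullback f g ≅ pullback f (q A), v.hom ≫ pullback.fst f (q A) = pullback.fst f g := by
  obtain ⟨w, hw⟩ := h
  exact ⟨asIso (pullback.map f g f (q A) (𝟙 _) w.hom (𝟙 _) (by simp) (by rw [hw, Category.comp_id])),
    (pullback.lift_fst _ _ _).trans (Category.comp_id _)⟩

/-- Vanishing transfers to a scheme isomorphic to projective space. -/
theorem subsingleton_structure {k : Type u} [Field k] {Y : Scheme.{u}} (e : Y ≅ CohB1.ProjSpace r k) :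
    Subsingleton (Coh.HH Y (Coh.structureModule Y) 2) := by
  have h := S0844.result k r 0 2 (by omega) (by rintro ⟨-, h⟩; omega)
  refine QCoh.subsingleton_HH_of_iso ?_ _ (H28.PnFlat.subsingleton_HH_pullback_of_iso e _ 1 h)
  refine (Scheme.Modules.pullback e.hom).mapIso (cl_eq_iff.1 ?_).some ≪≫
    (PicClLib.nonempty_pullback_structureModule e.hom).some
  exact map_one (SeesawX.PnFibre.twistHom r k)

variable [IsNoetherianRing A] [IsAdicComplete (IsLocalRing.maximalIdeal A) A] [IsProper f] [Flat f]

/-- The twisting module of the closed fibre lifts. -/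
theorem exists_lift_twist (e₀ : pullback f (q A) ≅ CohB1.ProjSpace r (IsLocalRing.ResidueField A))
    (L : (pullback f (q A)).Modules) (hL : PicF.IsInvertible L) :
    ∃ M : X.Modules, PicF.IsInvertible M ∧
      Nonempty ((Scheme.Modules.pullback (pullback.fst f (q A))).obj M ≅ L) := by
  let I := IsLocalRing.maximalIdeal A
  obtain ⟨v, hv⟩ := exists_fibre_iso f (CohB1.specQuot I 0) exists_thickBase
  have hcart := fun n => AmpleVan.FibreVanish.cart f I n
  haveI : ∀ n, IsClosedImmersion (CohB1.thickTrans f I n) := fun n => PicLift.isClosedImmersion_step I hcart n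
  have hflat : ∀ n, Flat (CohB1.thickToBase f I n) := fun n =>
    MorphismProperty.pullback_snd (P := @Flat) f (CohB1.specQuot I n) ‹Flat f›
  have h0 : Subsingleton (Coh.HH (CohB1.thick f I 0) (Coh.structureModule (CohB1.thick f I 0)) 2) :=
    subsingleton_structure (v ≪≫ e₀)
  have hstep : ∀ n, ∀ S : {S : (CohB1.thick f I n).Modules // PicF.IsInvertible S},
      ∃ S' : {S : (CohB1.thick f I (n + 1)).Modules // PicF.IsInvertible S},
        Nonempty ((Scheme.Modules.pullback (CohB1.thickTrans f I n)).obj S'.1 ≅ S.1) := fun n S => by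
    obtain ⟨S', h1, h2⟩ := PicLift.exists_lift_closed (CohB1.thickTrans f I n) (PicLift.ker_sq_step I hcart n)
      (PicLift.subsingleton_step I hcart hflat (IsLocalRing.maximalIdeal.isMaximal A) (IsNoetherian.noetherian I) 2 h0 n)
      S.1 S.2
    exact ⟨⟨S', h1⟩, h2⟩
  choose next hnext using hstep
  let S : ∀ m, {S : (CohB1.thick f I m).Modules // PicF.IsInvertible S} := fun m =>
    Nat.rec (motive := fun m => {S : (CohB1.thick f I m).Modules // PicF.IsInvertible S})
      ⟨(Scheme.Modules.pullback v.hom).obj L, PicClLib.isInvertible_pullback v.hom hL⟩ (fun m Sm => next m Sm) m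
  obtain ⟨M, hM, he⟩ := AGF20Lib.PicThk.exists_algebraize_inv f (fun m => (S m).1) (fun m => (S m).2)
    fun m => hnext m (S m)
  refine ⟨M, hM, cl_eq_iff.1 ?_⟩
  have h : PicF.pullCl (CohB1.thickι f I 0) (PicF.cl M) = PicF.pullCl v.hom (PicF.cl L) :=
    cl_eq_iff.2 (he 0)
  show PicF.pullCl (pullback.fst f (q A)) (PicF.cl M) = PicF.cl L
  have hfst : pullback.fst f (q A) = v.inv ≫ CohB1.thickι f I 0 := by
    rw [Iso.eq_inv_comp]
    exact hv
  rw [hfst, ← PicClLib.pullCl_comp, h, PicClLib.pullCl_comp, Iso.inv_hom_id, PicClLib.pullCl_id]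

end Groth.Agent.PnDeform

end
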