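import Groth.Agent.PnDeform.Base
import Groth.Agent.PicLift.Embed
import Groth.Agent.AmpleVan.LiftFibre
import Groth.Agent.S10888

/-!
Deformations of projective space over complete local rings are trivial.
-/

set_option autoImplicit false
set_option linter.style.haveILetI false
set_option linter.unusedSectionVars false
set_option backward.isDefEq.respectTransparency false
set_option backward.isDefEq.respectTransparency.types false
set_option maxHeartbeats 1000000

universe u

open CategoryTheory CategoryTheory.Limits AlgebraicGeometry TopologicalSpace Opposite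
open Groth.Agent.H23 Groth.Agent.H23.PicMul

attribute [local instance] PicMul.clMonoid

noncomputable section

namespace Groth.Agent.PnDeform

open Groth.Agent Groth.Agent.SeesawX.PnSpec

/-- A frame of a pulled back section at a point comes from a frame at the image. -/
theorem exists_frame_image {X Y : Scheme.{u}} (u : Y ⟶ X) {M : X.Modules} (hM : PicF.IsInvertible M)
    {ι : Type*} (s : ι → ProjUP.Γm M)
    (hgen : ProjUP.GeneratedBy ((Scheme.Modules.pullback u).obj M) (fun l => ProjUP.pullSec u M (s l))) (y : Y) :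
    ∃ l, u y ∈ CohB1.genLocus M (InvX.ofSect (s l)) := by
  obtain ⟨l, U, hyU, hU⟩ := InvX.exists_frame_of_generated (PicClLib.isInvertible_pullback u hM)
    (fun l => ProjUP.pullSec u M (s l)) y (hgen y)
  have hgl := AmpleVan.Near.genLocus_pullElt u hM (InvX.ofSect (s l))
    (InvX.ofSect (ProjUP.pullSec u M (s l))) isUnit_one (by
      rw [one_smul, InvX.one_ofSect, InvX.one_ofSect]; rfl)
  have hy : y ∈ CohB1.genLocus _ (InvX.ofSect (ProjUP.pullSec u M (s l))) :=
    InvX.le_genLocus _ (by rw [InvX.one_ofSect]; exact hU) hyU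
  exact ⟨l, hgl.le hy⟩

variable {A : Type u} [CommRing A] [IsLocalRing A] [IsNoetherianRing A]
  [IsAdicComplete (IsLocalRing.maximalIdeal A) A]

/-- A proper flat scheme over a complete local ring with closed fibre projective space is projective space. -/
theorem exists_iso {r : ℕ} {X : Scheme.{u}} (f : X ⟶ Spec (CommRingCat.of A)) [IsProper f] [Flat f]
    (e₀ : pullback f (q A) ≅ CohB1.ProjSpace r (IsLocalRing.ResidueField A))
    (he₀ : e₀.hom ≫ CohB1.ProjSpace.toSpec r (IsLocalRing.ResidueField A) = pullback.snd f _) :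
    ∃ e : X ≅ CohB1.ProjSpace r A, e.hom ≫ CohB1.ProjSpace.toSpec r A = f := by
  let π := CohB1.ProjSpace.toSpec r A
  haveI : IsProper π := PnCoh.Chow.isProper_toSpec r A
  let ι := pullback.fst f (q A)
  obtain ⟨β, hβ, ⟨τβ⟩⟩ := exists_pn_map (IsLocalRing.residue A) r
  let c := e₀.hom ≫ β
  have hcw : c ≫ π = ι ≫ f := by
    show (e₀.hom ≫ β) ≫ _ = _
    rw [Category.assoc, hβ.w, reassoc_of% he₀]
    exact pullback.condition.symm
  let L := (Scheme.Modules.pullback c).obj (Twist.twistProjSpace r A 1)
  have hL : PicF.IsInvertible L := PicClLib.isInvertible_pullback c (isInvertible_one r)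
  obtain ⟨M, hM, ⟨τ⟩⟩ := exists_lift_twist f e₀ L hL
  -- no first cohomology on the closed fibre
  have hH : Subsingleton (Coh.HH (pullback f (q A)) ((Scheme.Modules.pullback ι).obj M) 1) := by
    have h := S0844.result (IsLocalRing.ResidueField A) r 1 1 (by omega) (by rintro ⟨-, h⟩; omega)
    exact QCoh.subsingleton_HH_of_iso (((Scheme.Modules.pullback e₀.hom).mapIso τβ.symm) ≪≫
      (Scheme.Modules.pullbackComp e₀.hom β).app _ ≪≫ τ.symm) _
      (H28.PnFlat.subsingleton_HH_pullback_of_iso e₀ _ 0 h)
  letI : X.Over (Spec (CommRingCat.of A)) := ⟨f⟩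
  haveI : IsProper (X ↘ Spec (CommRingCat.of A)) := ‹IsProper f›
  haveI : Flat (X ↘ Spec (CommRingCat.of A)) := ‹Flat f›
  haveI : IsClosedImmersion ι := by
    haveI : IsClosedImmersion (q A) := IsClosedImmersion.spec_of_surjective _ IsLocalRing.residue_surjective
    exact MorphismProperty.pullback_fst (P := @IsClosedImmersion) f (q A) inferInstance
  -- lift the coordinates
  let t : Fin (r + 1) → ProjUP.Γm ((Scheme.Modules.pullback ι).obj M) := fun l =>
    τ.inv.app ⊤ (ProjUP.pullSec c _ (ProjUP.coord r A l))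
  have hlift : ∀ l, ∃ s : ProjUP.Γm M, ProjUP.pullSec ι M s = t l := fun l => by
    let adj := Scheme.Modules.pullbackPushforwardAdjunction ι
    let v : Coh.structureModule X ⟶ (Scheme.Modules.pushforward ι).obj ((Scheme.Modules.pullback ι).obj M) :=
      InvX.ofSect (show Γ((Scheme.Modules.pushforward ι).obj ((Scheme.Modules.pullback ι).obj M), ⊤) from t l)
    let e₁ : (Scheme.Modules.pullback ι).obj (Coh.structureModule X) ≅ Coh.structureModule _ :=
      (PicClLib.nonempty_pullback_structureModule ι).some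
    have h1 : Subsingleton (Coh.HH _ ((SheafHomX.hom ((Scheme.Modules.pullback ι).obj (Coh.structureModule X))).obj
        ((Scheme.Modules.pullback ι).obj M)) 1) :=
      QCoh.subsingleton_HH_of_iso ((SheafHomX.unitIso _).symm.app _ ≪≫
        { hom := (SheafHomX.homMap e₁.hom).app _
          inv := (SheafHomX.homMap e₁.inv).app _
          hom_inv_id := by rw [← SheafHomX.homMap_comp, Iso.inv_hom_id, SheafHomX.homMap_id]
          inv_hom_id := by rw [← SheafHomX.homMap_comp, Iso.hom_inv_id, SheafHomX.homMap_id] })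
        _ hH
    obtain ⟨u, hu⟩ := AmpleVan.exists_lift_modPow A (Coh.structureModule X) M
      (H23.PullPush.isFinLocFree_of_isInvertible (PicLoc.isInvertible_structureModule X)) (H23.PullPush.isFinLocFree_of_isInvertible hM)
      (i := ι) (q := pullback.snd f (q A)) (IsPullback.of_hasPullback f (q A)) h1 ((adj.homEquiv _ _).symm v)
    refine ⟨InvX.one u, ?_⟩
    have h2 : u ≫ adj.unit.app M = v := by
      rw [show u ≫ adj.unit.app M = (adj.homEquiv _ _) ((Scheme.Modules.pullback ι).map u) by
        rw [Adjunction.homEquiv_unit]; exact adj.unit.naturality u, hu, Equiv.apply_symm_apply]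
    have h3 : InvX.one (u ≫ adj.unit.app M) = InvX.one v := by rw [h2]
    rw [InvX.one_ofSect] at h3
    exact h3
  choose s hs using hlift
  -- they generate
  have hgen₀ : ProjUP.GeneratedBy ((Scheme.Modules.pullback ι).obj M) (fun l => ProjUP.pullSec ι M (s l)) := by
    have hτ : Carry τ (fun l => ProjUP.pullSec ι M (s l)) (fun l => ProjUP.pullSec c _ (ProjUP.coord r A l)) :=
      fun l => by
        show τ.hom.app ⊤ (ProjUP.pullSec ι M (s l)) = _
        rw [hs l]
        exact congr(($(τ.inv_hom_id)).app ⊤ (ProjUP.pullSec c _ (ProjUP.coord r A l)))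
    refine PicLift.generatedBy_lift (𝟙 _) (PicClLib.isInvertible_pullback ι hM)
      ((Scheme.Modules.pullbackId _).app _ ≪≫ τ) _ _ (fun l => ?_) (generatedBy_pullSec r c)
    exact ((carry_pullbackId _ (fun l => ProjUP.pullSec ι M (s l))).trans hτ) l
  have hgen : ProjUP.GeneratedBy M s := by
    let G : X.Opens := ⨆ l, CohB1.genLocus M (InvX.ofSect (s l))
    have hG : ∀ x : X, x ∈ G := by
      by_contra hne
      push Not at hne
      obtain ⟨x, hx⟩ := hne
      have hcl : IsClosed (f '' (G : Set X)ᶜ) := f.isClosedMap _ G.2.isClosed_compl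
      have h0 : IsLocalRing.closedPoint A ∈ f '' (G : Set X)ᶜ :=
        ((IsLocalRing.specializes_closedPoint (f x)).mem_closed hcl) ⟨x, hx, rfl⟩
      obtain ⟨z, hz, hz0⟩ := h0
      have hzr : z ∈ Set.range ι := by
        rw [Scheme.Pullback.range_fst]
        show f z ∈ Set.range (q A)
        exact ⟨IsLocalRing.closedPoint _, (IsLocalRing.comap_closedPoint (IsLocalRing.residue A)).trans hz0.symm⟩
      obtain ⟨y, rfl⟩ := hzr
      obtain ⟨l, hl⟩ := exists_frame_image ι hM s hgen₀ y
      exact hz (Opens.mem_iSup.2 ⟨l, hl⟩)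
    refine ProjUPX.generatedBy_of_frames _ fun x => ?_
    obtain ⟨l, hl⟩ := Opens.mem_iSup.1 (hG x)
    obtain ⟨V, hxV, hV⟩ := InvX.mem_genLocus hl
    rw [InvX.one_ofSect] at hV
    exact ⟨l, V, hxV, hV⟩
  obtain ⟨ρ, hρw, σ, hσ⟩ := S3572.result (R := A) r f M hM s hgen
  -- it is the given isomorphism on the closed fibre
  have hρc : ι ≫ ρ = c := by
    refine PicLift.eq_of_carry (ι ≫ ρ) c (by rw [Category.assoc, hρw, hcw])
      (s := fun l => ProjUP.pullSec ι M (s l))
      (((carry_comp ι ρ _ (ProjUP.coord r A)).symm).trans (Carry.pull ι (hσ : Carry σ _ s)))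
      (τ' := τ.symm) fun l => (hs l).symm
  haveI : LocallyOfFinitePresentation f :=
    AlgStLib.locallyOfFinitePresentation_of_isLocallyNoetherian f inferInstance
  haveI : LocallyOfFinitePresentation π :=
    AlgStLib.locallyOfFinitePresentation_of_isLocallyNoetherian π inferInstance
  obtain ⟨U, hU, hiso⟩ := S10888.result f π ρ hρw
  have hmem : IsLocalRing.closedPoint A ∈ U := by
    rw [hU]
    obtain ⟨v, hv⟩ := exists_fibre_iso f
      ((Spec (CommRingCat.of A)).fromSpecResidueField (IsLocalRing.closedPoint A)) exists_residueBase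
    obtain ⟨v', hv'⟩ := exists_fibre_iso π
      ((Spec (CommRingCat.of A)).fromSpecResidueField (IsLocalRing.closedPoint A)) exists_residueBase
    refine ⟨v ≪≫ e₀ ≪≫ hβ.isoPullback ≪≫ v'.symm, ?_⟩
    show (v.hom ≫ e₀.hom ≫ hβ.isoPullback.hom ≫ v'.inv) ≫ pullback.fst π _ = pullback.fst f _ ≫ ρ
    have hv'' : v'.inv ≫ pullback.fst π _ = pullback.fst π (q A) := by rw [Iso.inv_comp_eq, hv']
    rw [Category.assoc, Category.assoc, Category.assoc, hv'', IsPullback.isoPullback_hom_fst, ← hv,
      Category.assoc v.hom, hρc]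
  have htop : U = ⊤ := eq_top_iff.2 fun x _ => (IsLocalRing.specializes_closedPoint x).mem_open U.2 hmem
  subst htop
  haveI : IsIso (ρ ∣_ (π ⁻¹ᵁ ⊤)) := hiso
  have hρ : IsIso ρ := (IsZariskiLocalAtTarget.iff_of_iSup_eq_top (P := MorphismProperty.isomorphisms Scheme.{u})
    (fun _ : PUnit.{1} => π ⁻¹ᵁ ⊤) (iSup_const.trans rfl)).2 fun _ => hiso
  exact ⟨asIso ρ, hρw⟩

end Groth.Agent.PnDeform

end
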